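import Mathlib

/-!
# Three-closures of solvable permutation groups: basic notions

`cl G` is the 3-closure of a permutation group, `IH n` the statement of the main theorem for
all degrees smaller than `n`.
-/

set_option autoImplicit false

namespace Cfsg.Agent.H412.Tc

open Equiv Pointwise

universe u

/-- The 3-closure of a permutation group. -/
def cl {Ω : Type*} (G : Subgroup (Perm Ω)) : Subgroup (Perm Ω) where
  carrier := {h | ∀ a b c, ∃ g ∈ G, g a = h a ∧ g b = h b ∧ g c = h c}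
  mul_mem' := by
    intro h k hh hk a b c
    obtain ⟨g, hg, h1, h2, h3⟩ := hk a b c
    obtain ⟨g', hg', h1', h2', h3'⟩ := hh (k a) (k b) (k c)
    exact ⟨g' * g, G.mul_mem hg' hg, by simp [h1, h1'], by simp [h2, h2'], by simp [h3, h3']⟩
  one_mem' := fun a b c => ⟨1, G.one_mem, rfl, rfl, rfl⟩
  inv_mem' := by
    intro h hh a b c
    obtain ⟨g, hg, h1, h2, h3⟩ := hh (h⁻¹ a) (h⁻¹ b) (h⁻¹ c)
    refine ⟨g⁻¹, G.inv_mem hg, ?_, ?_, ?_⟩
    · rw [Perm.inv_eq_iff_eq, h1]; simp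
    · rw [Perm.inv_eq_iff_eq, h2]; simp
    · rw [Perm.inv_eq_iff_eq, h3]; simp

theorem mem_cl {Ω : Type*} {G : Subgroup (Perm Ω)} {h : Perm Ω} :
    h ∈ cl G ↔ ∀ a b c, ∃ g ∈ G, g a = h a ∧ g b = h b ∧ g c = h c := Iff.rfl

theorem le_cl {Ω : Type*} (G : Subgroup (Perm Ω)) : G ≤ cl G :=
  fun g hg _ _ _ => ⟨g, hg, rfl, rfl, rfl⟩

theorem cl_mono {Ω : Type*} {G G' : Subgroup (Perm Ω)} (h : G ≤ G') : cl G ≤ cl G' := by
  intro k hk a b c
  obtain ⟨g, hg, h1⟩ := hk a b c
  exact ⟨g, h hg, h1⟩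

/-- The main theorem in all degrees smaller than `n`. -/
def IH (n : ℕ) : Prop :=
  ∀ (Ω : Type u) [Finite Ω], Nat.card Ω < n → ∀ G : Subgroup (Perm Ω),
    Group.IsSolvable G → Group.IsSolvable (cl G)

theorem solvable_of_le {G : Type*} [Group G] {A B : Subgroup G} (h : A ≤ B)
    (hB : Group.IsSolvable B) : Group.IsSolvable A :=
  Group.isSolvable_of_isSolvable_injective (Subgroup.inclusion_injective h)

theorem solvable_map {G H : Type*} [Group G] [Group H] (f : G →* H) (A : Subgroup G)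
    (hA : Group.IsSolvable A) : Group.IsSolvable (A.map f) :=
  Group.isSolvable_of_surjective (f := f.subgroupMap A) (f.subgroupMap_surjective A)

/-- Transfer of the induction hypothesis to a group acting on a smaller set. -/
theorem IH.act {n : ℕ} (hI : IH.{u} n) {X : Type u} [Finite X] (hX : Nat.card X < n)
    {H : Type*} [Group H] (ρ : H →* Perm X) (G : Subgroup H) (hG : Group.IsSolvable G)
    (hagr : ∀ h : H, ∀ a b c : X, ∃ g ∈ G, ρ g a = ρ h a ∧ ρ g b = ρ h b ∧ ρ g c = ρ h c) :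
    Group.IsSolvable ρ.range := by
  have h1 := hI X hX (G.map ρ) (solvable_map ρ G hG)
  refine solvable_of_le ?_ h1
  rintro _ ⟨h, rfl⟩ a b c
  obtain ⟨g, hg, h2⟩ := hagr h a b c
  exact ⟨ρ g, ⟨g, hg, rfl⟩, h2⟩

theorem solvable_of_family {K : Type*} [Group K] {ι : Type*} [Finite ι] {H : ι → Type*}
    [∀ i, Group (H i)] (f : ∀ i, K →* H i) (hs : ∀ i, Group.IsSolvable (f i).range)
    (hk : ∀ x, (∀ i, f i x = 1) → x = 1) : Group.IsSolvable K := by
  classical
  have := Fintype.ofFinite ι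
  choose m hm using fun i => (hs i).solvable
  refine ⟨⟨Finset.univ.sup m, ?_⟩⟩
  rw [eq_bot_iff]
  intro x hx
  rw [Subgroup.mem_bot]
  apply hk
  intro i
  have h1 : (f i).rangeRestrict x ∈ derivedSeries (f i).range (Finset.univ.sup m) :=
    map_derivedSeries_le_derivedSeries (f i).rangeRestrict _ ⟨x, hx, rfl⟩
  have h2 := derivedSeries_antitone (f i).range (Finset.le_sup (f := m) (Finset.mem_univ i)) h1
  rw [hm i, Subgroup.mem_bot] at h2
  simpa using congrArg Subtype.val h2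

/-- If `A` normalizes `T` and both are solvable, then `A ⊔ T` is solvable. -/
theorem solvable_sup {G : Type*} [Group G] {A T : Subgroup G}
    (hA : Group.IsSolvable A) (hT : Group.IsSolvable T)
    (hn : ∀ a ∈ A, ∀ t ∈ T, a * t * a⁻¹ ∈ T) : Group.IsSolvable (A ⊔ T : Subgroup G) := by
  have hN : ∀ x ∈ A ⊔ T, ∀ t ∈ T, x * t * x⁻¹ ∈ T := by
    intro x hx
    have hle : A ⊔ T ≤ Subgroup.normalizer (T : Set G) := by
      apply sup_le
      · intro a ha
        rw [Subgroup.mem_normalizer_iff]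
        intro t
        refine ⟨hn a ha t, fun h => ?_⟩
        have := hn a⁻¹ (A.inv_mem ha) _ h
        simpa [mul_assoc] using this
      · exact Subgroup.le_normalizer
    intro t ht
    exact (Subgroup.mem_normalizer_iff.1 (hle hx) t).1 ht
  let N : Subgroup G := A ⊔ T
  let T' : Subgroup N := T.subgroupOf N
  have hT'n : T'.Normal := ⟨fun t ht x => by
    rw [Subgroup.mem_subgroupOf] at ht ⊢
    exact hN x x.2 t ht⟩
  have hT's : Group.IsSolvable T' := by
    refine Group.isSolvable_of_isSolvable_injective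
      (f := ((Subgroup.subgroupOfEquivOfLe (le_sup_right : T ≤ N)).toMonoidHom)) ?_
    exact (Subgroup.subgroupOfEquivOfLe (le_sup_right : T ≤ N)).injective
  have hQ : Group.IsSolvable (N ⧸ T') := by
    let f : A →* N ⧸ T' := (QuotientGroup.mk' T').comp (Subgroup.inclusion (le_sup_left : A ≤ N))
    refine Group.isSolvable_of_surjective (f := f) ?_
    intro q
    obtain ⟨x, rfl⟩ := QuotientGroup.mk_surjective q
    have hx := x.2
    have : (x : G) ∈ (A ⊔ T : Subgroup G) := hx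
    have hnorm : A ≤ Subgroup.normalizer (T : Set G) := by
      intro a ha
      rw [Subgroup.mem_normalizer_iff]
      intro t
      refine ⟨hn a ha t, fun h => ?_⟩
      have := hn a⁻¹ (A.inv_mem ha) _ h
      simpa [mul_assoc] using this
    have h3 : ((A ⊔ T : Subgroup G) : Set G) = (A : Set G) * (T : Set G) :=
      Subgroup.coe_mul_of_left_le_normalizer_right A T hnorm
    have h4 : (x : G) ∈ (A : Set G) * (T : Set G) := by rw [← h3]; exact this
    obtain ⟨a, ha, t, ht, hat⟩ := h4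
    refine ⟨⟨a, ha⟩, ?_⟩
    rw [MonoidHom.comp_apply, QuotientGroup.mk'_apply, QuotientGroup.eq, Subgroup.mem_subgroupOf]
    have : ((Subgroup.inclusion (le_sup_left : A ≤ N) ⟨a, ha⟩)⁻¹ * x : N).1 = t := by
      have : ((Subgroup.inclusion (le_sup_left : A ≤ N) ⟨a, ha⟩)⁻¹ * x : N).1 = a⁻¹ * x := rfl
      rw [this, ← hat]
      simp
    rw [this]
    exact ht
  exact (Group.isSolvable_iff_subgroup_quotient T').2 ⟨hT's, hQ⟩

/-- Induction hypothesis for groups fixing a point and normalizing a transitive solvable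
group: agreement on pairs is enough. -/
theorem IH.reg {n : ℕ} (hI : IH.{u} n) {X : Type u} [Finite X] (hX : Nat.card X < n)
    {H : Type*} [Group H] (ρ : H →* Perm X) (G : Subgroup H) (hG : Group.IsSolvable G)
    (T : Subgroup (Perm X)) (hT : Group.IsSolvable T) (htr : ∀ x y, ∃ t ∈ T, t x = y)
    (hn : ∀ h, ∀ t ∈ T, ρ h * t * (ρ h)⁻¹ ∈ T) (o : X) (ho : ∀ h, ρ h o = o)
    (hagr : ∀ h x y, ∃ g ∈ G, ρ g x = ρ h x ∧ ρ g y = ρ h y) :
    Group.IsSolvable ρ.range := by
  have h1 : Group.IsSolvable (G.map ρ ⊔ T : Subgroup (Perm X)) := by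
    refine solvable_sup (solvable_map ρ G hG) hT ?_
    rintro _ ⟨g, hg, rfl⟩ t ht
    exact hn g t ht
  have h2 := hI X hX _ h1
  refine solvable_of_le ?_ h2
  rintro _ ⟨h, rfl⟩ a b c
  obtain ⟨s, hs, hsa⟩ := htr a o
  obtain ⟨g, hg, hg1, hg2⟩ := hagr h (s b) (s c)
  have ht' : ρ h * s⁻¹ * (ρ h)⁻¹ ∈ T := hn h _ (T.inv_mem hs)
  refine ⟨(ρ h * s⁻¹ * (ρ h)⁻¹) * ρ g * s, ?_, ?_, ?_, ?_⟩
  · exact Subgroup.mul_mem _ (Subgroup.mul_mem _ (Subgroup.mem_sup_right ht')
      (Subgroup.mem_sup_left ⟨g, hg, rfl⟩)) (Subgroup.mem_sup_right hs)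
  · have : (ρ h)⁻¹ o = o := by rw [Perm.inv_eq_iff_eq, ho]
    simp only [Perm.mul_apply, hsa, ho, this]
    rw [← hsa]; simp
  · simp only [Perm.mul_apply, hg1]; simp
  · simp only [Perm.mul_apply, hg2]; simp

section Affine

variable {V : Type*} [AddCommGroup V]

/-- The group of invertible additive endomorphisms. -/
abbrev GV (V : Type*) [AddCommGroup V] := (AddMonoid.End V)ˣ

/-- The affine group over a group of additive automorphisms. -/
def Aff (A : Subgroup (GV V)) : Subgroup (Perm V) where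
  carrier := {f | ∃ a ∈ A, ∃ t : V, ∀ x, f x = a • x + t}
  mul_mem' := by
    rintro f g ⟨a, ha, t, hf⟩ ⟨b, hb, s, hg⟩
    refine ⟨a * b, A.mul_mem ha hb, a • s + t, fun x => ?_⟩
    rw [Perm.mul_apply, hg, hf, smul_add, mul_smul, add_assoc]
  one_mem' := ⟨1, A.one_mem, 0, fun x => by simp⟩
  inv_mem' := by
    rintro f ⟨a, ha, t, hf⟩
    refine ⟨a⁻¹, A.inv_mem ha, - (a⁻¹ • t), fun x => ?_⟩
    rw [Perm.inv_eq_iff_eq, hf, smul_add, smul_inv_smul, smul_neg, smul_inv_smul]
    abel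

theorem mem_Aff {A : Subgroup (GV V)} {f : Perm V} :
    f ∈ Aff A ↔ ∃ a ∈ A, ∃ t : V, ∀ x, f x = a • x + t := Iff.rfl

theorem Aff_mono {A B : Subgroup (GV V)} (h : A ≤ B) : Aff A ≤ Aff B := by
  rintro f ⟨a, ha, t, hf⟩
  exact ⟨a, h ha, t, hf⟩

/-- The group of additive automorphisms agreeing with elements of `A` on pairs. -/
def cl2 (A : Subgroup (GV V)) : Subgroup (GV V) where
  carrier := {h | ∀ u w : V, ∃ g ∈ A, g • u = h • u ∧ g • w = h • w}
  mul_mem' := by
    intro h k hh hk a b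
    obtain ⟨g, hg, h1, h2⟩ := hk a b
    obtain ⟨g', hg', h1', h2'⟩ := hh (k • a) (k • b)
    exact ⟨g' * g, A.mul_mem hg' hg, by rw [mul_smul, mul_smul, h1, h1'],
      by rw [mul_smul, mul_smul, h2, h2']⟩
  one_mem' := fun a b => ⟨1, A.one_mem, rfl, rfl⟩
  inv_mem' := by
    intro h hh a b
    obtain ⟨g, hg, h1, h2⟩ := hh (h⁻¹ • a) (h⁻¹ • b)
    refine ⟨g⁻¹, A.inv_mem hg, ?_, ?_⟩
    · rw [inv_smul_eq_iff, h1]; simp
    · rw [inv_smul_eq_iff, h2]; simp

theorem mem_cl2 {A : Subgroup (GV V)} {h : GV V} :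
    h ∈ cl2 A ↔ ∀ u w : V, ∃ g ∈ A, g • u = h • u ∧ g • w = h • w := Iff.rfl

theorem le_cl2 (A : Subgroup (GV V)) : A ≤ cl2 A :=
  fun g hg _ _ => ⟨g, hg, rfl, rfl⟩

/-- The translations. -/
def Tra (V : Type*) [AddCommGroup V] : Subgroup (Perm V) where
  carrier := {f | ∃ t : V, ∀ x, f x = x + t}
  mul_mem' := by
    rintro f g ⟨t, hf⟩ ⟨s, hg⟩
    exact ⟨s + t, fun x => by rw [Perm.mul_apply, hg, hf, add_assoc]⟩
  one_mem' := ⟨0, fun x => by simp⟩
  inv_mem' := by
    rintro f ⟨t, hf⟩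
    exact ⟨-t, fun x => by rw [Perm.inv_eq_iff_eq, hf]; simp⟩

theorem solvable_Tra : Group.IsSolvable (Tra V) := by
  refine Group.isSolvable_of_comm ?_
  rintro ⟨f, t, hf⟩ ⟨g, s, hg⟩
  ext x
  simp only [Subgroup.coe_mul, Perm.mul_apply, hf, hg]
  abel

theorem Tra_trans (x y : V) : ∃ t ∈ Tra V, t x = y :=
  ⟨Equiv.addRight (y - x), ⟨y - x, fun z => rfl⟩, by simp⟩

theorem conj_Tra (a : GV V) (t : Perm V) (ht : t ∈ Tra V) :
    MulAction.toPermHom (GV V) V a * t * (MulAction.toPermHom (GV V) V a)⁻¹ ∈ Tra V := by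
  obtain ⟨s, hs⟩ := ht
  refine ⟨a • s, fun x => ?_⟩
  have h1 : (MulAction.toPermHom (GV V) V a)⁻¹ x = a⁻¹ • x := by
    rw [Perm.inv_eq_iff_eq]
    simp
  rw [Perm.mul_apply, Perm.mul_apply, h1, hs, MulAction.toPermHom_apply,
    MulAction.toPerm_apply, smul_add, smul_inv_smul]

theorem solvable_Aff (A : Subgroup (GV V)) (hA : Group.IsSolvable A) :
    Group.IsSolvable (Aff A) := by
  have h1 : Group.IsSolvable
      (A.map (MulAction.toPermHom (GV V) V) ⊔ Tra V : Subgroup (Perm V)) := by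
    refine solvable_sup (solvable_map _ A hA) solvable_Tra ?_
    rintro _ ⟨a, ha, rfl⟩ t ht
    exact conj_Tra a t ht
  refine solvable_of_le ?_ h1
  rintro f ⟨a, ha, t, hf⟩
  have h2 : f = Equiv.addRight t * MulAction.toPermHom (GV V) V a := by
    ext x
    rw [hf]
    rfl
  rw [h2]
  exact Subgroup.mul_mem _ (Subgroup.mem_sup_right ⟨t, fun x => rfl⟩)
    (Subgroup.mem_sup_left ⟨a, ha, rfl⟩)

/-- Linear version of the induction hypothesis. -/
theorem IH.lin {n : ℕ} (hI : IH.{u} n) {W : Type u} [AddCommGroup W] [Finite W]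
    (hW : Nat.card W < n) {H : Type*} [Group H] (ρ : H →* GV W) (G : Subgroup H)
    (hG : Group.IsSolvable G)
    (hagr : ∀ h, ∀ u w : W, ∃ g ∈ G, ρ g • u = ρ h • u ∧ ρ g • w = ρ h • w) :
    Group.IsSolvable ρ.range := by
  have h1 := hI.reg hW ((MulAction.toPermHom (GV W) W).comp ρ) G hG (Tra W) solvable_Tra
    Tra_trans (fun h t ht => conj_Tra (ρ h) t ht) 0 (fun h => by simp)
    (fun h x y => hagr h x y)
  rw [MonoidHom.range_comp] at h1
  have h2 : Function.Injective (MulAction.toPermHom (GV W) W) := by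
    intro a b hab
    apply Units.ext
    ext x
    exact congrArg (fun f : Perm W => f x) hab
  exact Group.isSolvable_of_isSolvable_injective
    (f := (MulAction.toPermHom (GV W) W).subgroupMap ρ.range)
    (fun a b hab => by
      apply Subtype.ext
      apply h2
      exact congrArg Subtype.val hab)

end Affine

end Cfsg.Agent.H412.Tc
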