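import Cfsg.Agent.H412.Tc.SemiGrp
import Cfsg.Agent.H306.TcEx
import Cfsg.Agent.H308.TcCent
import Cfsg.Agent.H308.TcDual
import Cfsg.Agent.H102.TcSing
import Cfsg.Agent.H269.TcQEight
import Cfsg.Agent.H352.TcEncTwo
import Cfsg.Agent.H604.TcEncOdd
import Cfsg.Agent.H877.TcSmall
import Cfsg.Agent.H877.TcFinish
import Cfsg.Agent.H560.TcFlagOdd
import Cfsg.Agent.H299.TcFlagTwo
import Cfsg.Agent.H982.TcECase

/-!
# Assembly of the main case
-/

set_option autoImplicit false

namespace Cfsg.Agent.H412.Tc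

universe u

variable {K V : Type u} [Field K] [Finite K] [AddCommGroup V] [Finite V] [Module K V]
    {A B : Subgroup (GV V)} {r : ℕ}

theorem SetA.nontrivial (S : SetA K V A) : Nontrivial V := by
  have h := S.card
  exact Finite.one_lt_card_iff_nontrivial.1 (by omega)

/-- Conjugates of elements of `B` under `cl2 A` map every vector to an element of its
`B`-orbit. -/
theorem SetB.conj_orbit (S : SetB K V A B r) {h : GV V} (hh : h ∈ cl2 A) {x : GV V}
    (hx : x ∈ B) (v : V) : ∃ b ∈ B, (h * x * h⁻¹) • v = b • v := by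
  obtain ⟨g, hg, h1, h2⟩ := hh (h⁻¹ • v) (x • h⁻¹ • v)
  refine ⟨g * x * g⁻¹, S.norm g hg x hx, ?_⟩
  have h3 : g⁻¹ • v = h⁻¹ • v := by
    rw [inv_smul_eq_iff, h1, smul_inv_smul]
  rw [mul_smul, mul_smul, mul_smul, mul_smul, h3, h2]

theorem T1.main (S : SetB K V A B r) (hs : ∀ h ∈ cl2 A, Semi K h) :
    Group.IsSolvable (cl2 A) ∨ ∀ h ∈ cl2 A, ∀ b ∈ B, h * b * h⁻¹ ∈ B := by
  by_cases hsol : Group.IsSolvable (cl2 A)
  · exact Or.inl hsol
  right
  intro h hh x hx
  have hy : Lin K (h * x * h⁻¹) := (hs h hh).conj_lin (S.heis.linb hx)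
  have hv := fun v => S.conj_orbit hh hx v
  have hyr : ∃ c : Kˣ, (h * x * h⁻¹) ^ r = scal K V c := by
    obtain ⟨c, hc⟩ := S.heis.pow x hx
    obtain ⟨d, hd⟩ := (hs h hh).conj_scal c
    exact ⟨d, by rw [conj_pow, hc, hd]⟩
  rcases H306.TcEx.Ex.main S with ⟨x0, hx0, hx0r, hx0n⟩ | ⟨hr, hK, a, ha, b, hb, ha2, hb2, hab, hB⟩
  · refine H308.TcDual.Dual.main S (H308.TcCent.Cent.main S) hy hv ?_
    -- elements of order dividing `r` generate `B` modulo scalars
    let N : Subgroup (GV V) := Subgroup.closure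
      ({z | ∃ c : Kˣ, z = scal K V c} ∪ {z | z ∈ B ∧ z ^ r = 1})
    have hNB : N ≤ B := by
      rw [Subgroup.closure_le]
      rintro z (⟨c, rfl⟩ | ⟨hz, -⟩)
      · exact S.heis.scal_mem c
      · exact hz
    have hBN : B ≤ N := by
      rcases S.min N (fun c => Subgroup.subset_closure (Or.inl ⟨c, rfl⟩)) hNB (by
        intro g hg
        have : N ≤ N.comap (MulAut.conj g).toMonoidHom := by
          rw [Subgroup.closure_le]
          rintro z (⟨c, rfl⟩ | ⟨hz, hzr⟩)
          · obtain ⟨d, hd⟩ := (S.semi g hg).conj_scal c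
            exact Subgroup.subset_closure (Or.inl ⟨d, hd⟩)
          · refine Subgroup.subset_closure (Or.inr ⟨S.norm g hg z hz, ?_⟩)
            change (g * z * g⁻¹) ^ r = 1
            rw [conj_pow, hzr]; simp
        intro b hb
        exact this hb) with h1 | h1
      · obtain ⟨c, hc⟩ := h1 x0 (Subgroup.subset_closure (Or.inr ⟨hx0, hx0r⟩))
        exact absurd hc (hx0n c)
      · exact h1
    intro b hb
    have hb' := hBN hb
    clear hb
    induction hb' using Subgroup.closure_induction with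
    | mem z hz =>
      rcases hz with ⟨c, rfl⟩ | ⟨hz, hzr⟩
      · exact ⟨1, CC.scal_left hy c⟩
      · by_cases hzn : ∀ c : Kˣ, z ≠ scal K V c
        · exact H102.TcSing.Sing.main S hz hzr hzn hy hyr hv
        · push Not at hzn
          obtain ⟨c, rfl⟩ := hzn
          exact ⟨1, CC.scal_left hy c⟩
    | one => exact ⟨1, by unfold CC; simp⟩
    | mul z w hz hw ihz ihw =>
      obtain ⟨c, hc⟩ := ihz
      obtain ⟨d, hd⟩ := ihw
      exact ⟨c * d, CC.mul_left (S.heis.linb (hNB hz)) hc hd⟩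
    | inv z hz ihz =>
      obtain ⟨c, hc⟩ := ihz
      refine ⟨c⁻¹, ?_⟩
      have hzl : Lin K z := S.heis.linb (hNB hz)
      unfold CC at *
      have h2 : (h * x * h⁻¹) * z = scal K V c⁻¹ * (z * (h * x * h⁻¹)) := by
        rw [hc, ← mul_assoc, ← map_mul, inv_mul_cancel, map_one, one_mul]
      have h3 : z⁻¹ * ((h * x * h⁻¹) * z) * z⁻¹ =
          z⁻¹ * (scal K V c⁻¹ * (z * (h * x * h⁻¹))) * z⁻¹ := by rw [h2]
      have h4 : z⁻¹ * scal K V c⁻¹ = scal K V c⁻¹ * z⁻¹ := hzl.inv.scal_comm _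
      calc z⁻¹ * (h * x * h⁻¹) = z⁻¹ * ((h * x * h⁻¹) * z) * z⁻¹ := by group
        _ = (z⁻¹ * scal K V c⁻¹) * (z * (h * x * h⁻¹)) * z⁻¹ := by rw [h3]; simp only [mul_assoc]
        _ = _ := by rw [h4]; group
  · subst hr
    rcases H269.TcQEight.QEight.main S hK ha hb ha2 hb2 hab hB hy hv with h1 | h1
    · exact h1
    · exact absurd h1 hsol

theorem T2.main (S : SetB K V A B r) (hs : ∀ h ∈ cl2 A, Semi K h)
    (hn : ∀ h ∈ cl2 A, ∀ b ∈ B, h * b * h⁻¹ ∈ B) :
    Group.IsSolvable (cl2 A) ∨ Concl K A B := by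
  have : Nontrivial V := S.toSetA.nontrivial
  rcases H306.TcEx.Ex.main S with hx | ⟨hr, hK, a, ha, b, hb, ha2, hb2, hab, hB⟩
  · obtain ⟨hp1, hp2⟩ := H306.TcEx.Powr.main S hx
    by_cases hr : r = 2
    · subst hr
      rcases H299.TcFlagTwo.FlagTwo.main S hx (hp2 rfl) with hg | ⟨hK, hE⟩
      · exact Or.inr (H877.Finish.main S hs hn (H352.TcEncTwo.EncTwo.main S hs hn (hp2 rfl) hg) hg)
      · exact Or.inl (H982.TcECase.ECase.main S hs hn hK hE)
    · have hg := H560.TcFlagOdd.FlagOdd.main S hr (hp1 hr)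
      by_cases h9 : r = 3 → ∀ x v, Good K r B x v →
          ∃ a ∈ B, a * x = x * a ∧ ∀ (i : ℕ) (c : Kˣ), a ≠ scal K V c * x ^ i
      · exact Or.inr (H877.Finish.main S hs hn (H604.TcEncOdd.EncOdd.main S hr hs hn (hp1 hr) hg h9) hg)
      · push Not at h9
        obtain ⟨hr3, x, v, hgx, h9⟩ := h9
        right
        obtain ⟨hxB, hxr, hxn, hv0, hxv, hgen⟩ := hgx
        obtain ⟨z, hz, ω, hω, hzc⟩ := S.heis.exists_cc_ne hxB hxn
        refine H877.Small.main S hs hn (by omega) ⟨x, hxB, z, hz, fun b hb => ?_⟩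
        obtain ⟨c, hc⟩ := S.heis.cc hxB hb
        obtain ⟨j, -, hj⟩ := exists_pow_eq S.heis.prime hω (S.heis.cc_pow hxB hz hzc)
          (S.heis.cc_pow hxB hb hc)
        have hzj : CC c x (z ^ j) := hj ▸ hzc.pow_right (S.heis.linb hz) j
        have hcomm : (b * (z ^ j)⁻¹) * x = x * (b * (z ^ j)⁻¹) := by
          have hzl : Lin K (z ^ j) := (S.heis.linb hz).pow j
          unfold CC at hc hzj
          have e1 : (z ^ j)⁻¹ * x = scal K V c * (x * (z ^ j)⁻¹) := by
            have e2 : x = scal K V c * ((z ^ j) * x) * (z ^ j)⁻¹ := by rw [← hzj]; group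
            calc (z ^ j)⁻¹ * x = (z ^ j)⁻¹ * (scal K V c * ((z ^ j) * x) * (z ^ j)⁻¹) := by
                  rw [← e2]
              _ = ((z ^ j)⁻¹ * scal K V c) * ((z ^ j) * x) * (z ^ j)⁻¹ := by
                  simp only [mul_assoc]
              _ = _ := by rw [hzl.inv.scal_comm]; group
          calc (b * (z ^ j)⁻¹) * x = b * ((z ^ j)⁻¹ * x) := by group
            _ = (b * scal K V c) * (x * (z ^ j)⁻¹) := by rw [e1]; simp only [mul_assoc]
            _ = (scal K V c * (b * x)) * (z ^ j)⁻¹ := by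
                rw [(S.heis.linb hb).scal_comm]; simp only [mul_assoc]
            _ = _ := by rw [← hc]; simp only [mul_assoc]
        obtain ⟨i, d, hd⟩ := h9 _ (B.mul_mem hb (B.inv_mem (B.pow_mem hz j))) hcomm
        refine ⟨i, j, d, ?_⟩
        rw [← mul_assoc, ← hd]; group
  · subst hr
    right
    refine H877.Small.main S hs hn (by norm_num) ⟨a, ha, b, hb, fun x hx => ?_⟩
    obtain ⟨c, h | h | h | h⟩ := hB x hx
    · exact ⟨0, 0, c, by rw [h]; simp⟩
    · exact ⟨1, 0, c, by rw [h]; simp⟩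
    · exact ⟨0, 1, c, by rw [h]; simp⟩
    · exact ⟨1, 1, c, by rw [h]; simp⟩

end Cfsg.Agent.H412.Tc
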