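import Cfsg.Agent.H412.Tc.HeisDefs

/-!
# Semilinear maps and solvable extensions
-/

set_option autoImplicit false

namespace Cfsg.Agent.H412.Tc

open scoped commutatorElement

theorem aut_comm {K : Type*} [Field K] [Finite K] (σ τ : K ≃+* K) : σ * τ = τ * σ := by
  let Γ : Subgroup (K ≃+* K) := ⊤
  have : Finite (K ≃+* K) :=
    Finite.of_injective (fun f : K ≃+* K => (f : K → K)) DFunLike.coe_injective
  have hc : IsCyclic Γ := by
    let e := FixedPoints.toAlgAutMulEquiv Γ K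
    exact isCyclic_of_surjective e.symm.toMonoidHom e.symm.surjective
  obtain ⟨g, hg⟩ := hc.exists_generator
  obtain ⟨i, hi⟩ := Subgroup.mem_zpowers_iff.1 (hg ⟨σ, Subgroup.mem_top σ⟩)
  obtain ⟨j, hj⟩ := Subgroup.mem_zpowers_iff.1 (hg ⟨τ, Subgroup.mem_top τ⟩)
  have h1 : (⟨σ, Subgroup.mem_top σ⟩ * ⟨τ, Subgroup.mem_top τ⟩ : Γ) =
      ⟨τ, Subgroup.mem_top τ⟩ * ⟨σ, Subgroup.mem_top σ⟩ := by
    rw [← hi, ← hj, ← zpow_add, ← zpow_add, add_comm]
  exact congrArg Subtype.val h1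

/-- A group all of whose commutators lie in a solvable subgroup is solvable. -/
theorem solvable_ext {G : Type*} [Group G] {N M : Subgroup G} (hM : Group.IsSolvable M)
    (h : ∀ x ∈ N, ∀ y ∈ N, x * y * x⁻¹ * y⁻¹ ∈ M) : Group.IsSolvable N := by
  let C : Subgroup N := ⁅(⊤ : Subgroup N), ⊤⁆
  have h1 : C.map N.subtype ≤ M := by
    rw [Subgroup.map_le_iff_le_comap, Subgroup.commutator_le]
    intro x _ y _
    exact h x x.2 y y.2
  have h2 : Group.IsSolvable (C.map N.subtype) := solvable_of_le h1 hM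
  have h3 : Group.IsSolvable C :=
    Group.isSolvable_of_isSolvable_injective (f := N.subtype.subgroupMap C) (fun a b hab => by
      apply Subtype.ext
      have h4 := congrArg Subtype.val hab
      exact N.subtype_injective h4)
  refine (Group.isSolvable_iff_subgroup_quotient C).2 ⟨h3, ?_⟩
  refine Group.isSolvable_of_comm ?_
  intro a b
  obtain ⟨a, rfl⟩ := QuotientGroup.mk_surjective a
  obtain ⟨b, rfl⟩ := QuotientGroup.mk_surjective b
  rw [← QuotientGroup.mk_mul, ← QuotientGroup.mk_mul, QuotientGroup.eq]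
  have h4 : (a * b)⁻¹ * (b * a) = ⁅b⁻¹, a⁻¹⁆ := by
    rw [commutatorElement_def]; group
  rw [h4]
  exact Subgroup.commutator_mem_commutator (Subgroup.mem_top _) (Subgroup.mem_top _)

section

variable {K V : Type*} [Field K] [AddCommGroup V] [Module K V]

theorem Semi.mul {g h : GV V} (hg : Semi K g) (hh : Semi K h) : Semi K (g * h) := by
  obtain ⟨σ, hσ⟩ := hg
  obtain ⟨τ, hτ⟩ := hh
  exact ⟨σ * τ, fun c v => by rw [mul_smul, hτ, hσ, mul_smul]; rfl⟩

theorem Semi.inv {g : GV V} (hg : Semi K g) : Semi K g⁻¹ := by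
  obtain ⟨σ, hσ⟩ := hg
  refine ⟨σ.symm, fun c v => ?_⟩
  rw [inv_smul_eq_iff, hσ, smul_inv_smul]
  simp

theorem Semi.of_lin {g : GV V} (hg : Lin K g) : Semi K g := ⟨RingEquiv.refl K, fun c v => hg c v⟩

theorem Semi.one : Semi K (1 : GV V) := Semi.of_lin Lin.one

/-- The semilinear group. -/
def SemiG (K V : Type*) [Field K] [AddCommGroup V] [Module K V] : Subgroup (GV V) where
  carrier := {g | Semi K g}
  mul_mem' := fun ha hb => Semi.mul ha hb
  one_mem' := Semi.one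
  inv_mem' := fun ha => Semi.inv ha

theorem conj_scal {g : GV V} {σ : K ≃+* K} (hσ : ∀ (c : K) (v : V), g • c • v = σ c • g • v)
    (c : Kˣ) : g * scal K V c * g⁻¹ = scal K V (Units.map (σ : K →* K) c) := by
  rw [mul_inv_eq_iff_eq_mul]
  apply GV_ext
  intro v
  rw [mul_smul, mul_smul, scal_smul, hσ, scal_smul]
  rfl

theorem Semi.conj_scal {g : GV V} (hg : Semi K g) (c : Kˣ) :
    ∃ d : Kˣ, g * scal K V c * g⁻¹ = scal K V d := by
  obtain ⟨σ, hσ⟩ := hg
  exact ⟨_, Tc.conj_scal hσ c⟩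

theorem Semi.conj_lin {g x : GV V} (hg : Semi K g) (hx : Lin K x) : Lin K (g * x * g⁻¹) := by
  obtain ⟨σ, hσ⟩ := hg
  intro c v
  have h1 : g⁻¹ • c • v = σ.symm c • g⁻¹ • v := by
    rw [inv_smul_eq_iff, hσ, smul_inv_smul]
    simp
  rw [mul_smul, mul_smul, h1, hx, hσ, mul_smul, mul_smul]
  simp

/-- Conjugating elements commuting up to a scalar. -/
theorem Semi.conj_cc {g a b : GV V} (hg : Semi K g) {c : Kˣ} (h : CC c a b) :
    ∃ d : Kˣ, scal K V d = g * scal K V c * g⁻¹ ∧ CC d (g * a * g⁻¹) (g * b * g⁻¹) := by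
  obtain ⟨d, hd⟩ := hg.conj_scal c
  refine ⟨d, hd.symm, ?_⟩
  unfold CC at *
  rw [← hd]
  calc g * a * g⁻¹ * (g * b * g⁻¹) = g * (a * b) * g⁻¹ := by group
    _ = _ := by rw [h]; group

end

end Cfsg.Agent.H412.Tc
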