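import Cfsg.Agent.H412.Tc.AssT
import Cfsg.Agent.H183.TcStepB
import Cfsg.Agent.H734.TcDich
import Cfsg.Agent.H748.TcT0
import Cfsg.Agent.H529.TcHilbertN
import Cfsg.Agent.H344.TcStepE
import Cfsg.Agent.H216.TcT3
import Cfsg.Agent.H680.TcSelB
import Cfsg.Agent.H877.TcLast

/-!
# The affine case, and the main theorem
-/

set_option autoImplicit false

namespace Cfsg.Agent.H412.Tc

open Equiv

universe u

theorem finite_End (V : Type*) [AddCommGroup V] [Finite V] : Finite (AddMonoid.End V) :=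
  Finite.of_injective (fun f : AddMonoid.End V => (f : V → V)) DFunLike.coe_injective

/-- The one-dimensional case. -/
theorem case_one {K V : Type u} [Field K] [Finite K] [AddCommGroup V] [Finite V] [Module K V]
    (A : Subgroup (GV V)) (hsemi : ∀ g ∈ A, Semi K g) (v : V) (hv0 : v ≠ 0)
    (hv : ∀ w, ∃ c : K, w = c • v) : Group.IsSolvable (cl (Aff A)) := by
  classical
  -- coordinates
  have hinj : Function.Injective fun c : K => c • v := smul_left_injective K hv0
  let e : K ≃ V := Equiv.ofBijective (fun c : K => c • v)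
    ⟨hinj, fun w => by obtain ⟨c, hc⟩ := hv w; exact ⟨c, hc.symm⟩⟩
  have he : ∀ c : K, e c = c • v := fun c => rfl
  -- the group of maps `x ↦ α σ x` on `K`
  let G : Subgroup (GV K) :=
    { carrier := {g | ∃ (α : Kˣ) (σ : K ≃+* K), ∀ x : K, g • x = α * σ x}
      mul_mem' := by
        rintro g h ⟨α, σ, hg⟩ ⟨β, τ, hh⟩
        refine ⟨α * Units.map (σ : K →* K) β, σ * τ, fun x => ?_⟩
        rw [mul_smul, hh, hg, map_mul]
        simp [mul_assoc]
      one_mem' := ⟨1, RingEquiv.refl K, fun x => by simp⟩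
      inv_mem' := by
        rintro g ⟨α, σ, hg⟩
        refine ⟨Units.map (σ.symm : K →* K) α⁻¹, σ.symm, fun x => ?_⟩
        rw [inv_smul_eq_iff, hg, map_mul]
        simp }
  let M : Subgroup (GV K) :=
    { carrier := {g | ∃ α : Kˣ, ∀ x : K, g • x = α * x}
      mul_mem' := by
        rintro g h ⟨α, hg⟩ ⟨β, hh⟩
        refine ⟨α * β, fun x => ?_⟩
        rw [mul_smul, hh, hg]
        simp [mul_assoc]
      one_mem' := ⟨1, fun x => by simp⟩
      inv_mem' := by
        rintro g ⟨α, hg⟩
        refine ⟨α⁻¹, fun x => ?_⟩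
        rw [inv_smul_eq_iff, hg]
        simp }
  have hM : Group.IsSolvable M := by
    refine Group.isSolvable_of_comm ?_
    rintro ⟨g, α, hg⟩ ⟨h, β, hh⟩
    apply Subtype.ext
    apply GV_ext
    intro x
    simp only [Subgroup.coe_mul, mul_smul, hg, hh]
    ring
  have hG : Group.IsSolvable G := by
    refine solvable_ext hM ?_
    rintro g ⟨α, σ, hg⟩ h ⟨β, τ, hh⟩
    -- `g h = γ h g` up to a scalar
    refine ⟨α * Units.map (σ : K →* K) β * (β * Units.map (τ : K →* K) α)⁻¹, fun x => ?_⟩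
    obtain ⟨z, rfl⟩ : ∃ z : K, (h * g) • z = x := ⟨(h * g)⁻¹ • x, smul_inv_smul _ _⟩
    have h1 : (g * h * g⁻¹ * h⁻¹) • (h * g) • z = (g * h) • z := by
      rw [← mul_smul]; congr 1; group
    rw [h1, mul_smul, mul_smul, hh, hg, hg, hh, map_mul, map_mul]
    have h2 : σ (τ z) = τ (σ z) := by
      have := aut_comm σ τ
      exact congrArg (fun f : K ≃+* K => f z) this
    rw [h2]
    have h3 : (τ α : K) ≠ 0 := by
      simp
    simp only [Units.val_mul, Units.coe_map, mul_inv, Units.val_inv_eq_inv_val,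
      MonoidHom.coe_coe]
    change ((α : K) * (σ β * τ (σ z))) =
      α * σ β * ((β : K)⁻¹ * (τ α)⁻¹) * (β * (τ α * τ (σ z)))
    have h4 : (β : K) ≠ 0 := β.ne_zero
    field_simp
  -- transport
  let f : Perm V →* Perm K := (e.symm.permCongrHom : Perm V ≃* Perm K).toMonoidHom
  have hf : ∀ (p : Perm V) (x : K), f p x = e.symm (p (e x)) := fun p x => rfl
  have h1 : (cl (Aff A)).map f ≤ Aff G := by
    rintro _ ⟨h, hh, rfl⟩
    obtain ⟨α, σ, β, hασ⟩ := Cfsg.Agent.H748.TcT0.T0.main (f h) (by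
      intro a b c
      obtain ⟨p, hp, h1, h2, h3⟩ := hh (e a) (e b) (e c)
      obtain ⟨g, hg, t, hgt⟩ := hp
      obtain ⟨σ, hσ⟩ := hsemi g hg
      obtain ⟨α, hα⟩ := hv (g • v)
      obtain ⟨β, hβ⟩ := hv t
      have hα0 : α ≠ 0 := by
        rintro rfl
        rw [zero_smul] at hα
        exact hv0 ((smul_eq_zero_iff_eq g).1 hα)
      have hx : ∀ x : K, f p x = α * σ x + β := by
        intro x
        rw [hf, Equiv.symm_apply_eq, he, he, hgt, hσ, hα, hβ, smul_smul, ← add_smul, mul_comm]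
      refine ⟨Units.mk0 α hα0, σ, β, ?_, ?_, ?_⟩
      · rw [hf, ← h1, ← hf, hx, Units.val_mk0]
      · rw [hf, ← h2, ← hf, hx, Units.val_mk0]
      · rw [hf, ← h3, ← hf, hx, Units.val_mk0])
    let g0 : GV K := (⟨
      { toFun := fun x => α * σ x
        map_zero' := by simp
        map_add' := fun x y => by simp [mul_add] },
      { toFun := fun x => σ.symm (α⁻¹ * x)
        map_zero' := by simp
        map_add' := fun x y => by simp [mul_add] },
      by
        ext x
        change (α : K) * σ (σ.symm (((α⁻¹ : Kˣ) : K) * x)) = x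
        simp,
      by
        ext x
        change σ.symm (((α⁻¹ : Kˣ) : K) * ((α : K) * σ x)) = x
        simp⟩ :
        (AddMonoid.End K)ˣ)
    refine ⟨g0, ⟨α, σ, fun x => rfl⟩, β, fun x => ?_⟩
    rw [hασ]
    rfl
  have h2 : Group.IsSolvable ((cl (Aff A)).map f) := solvable_of_le h1 (solvable_Aff G hG)
  have h3 : Function.Injective f := (e.symm.permCongrHom : Perm V ≃* Perm K).injective
  exact Group.isSolvable_of_isSolvable_injective (f := f.subgroupMap (cl (Aff A)))
    (fun a b hab => by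
      apply Subtype.ext
      have h4 := congrArg Subtype.val hab
      exact h3 h4)

/-- Solvability of `cl2 A` in the main case. -/
theorem case_two {K V : Type u} [Field K] [Finite K] [AddCommGroup V] [Finite V] [Module K V]
    {A : Subgroup (GV V)} (S : SetA K V A) (hns : ∃ g ∈ A, Lin K g ∧ ∀ c : Kˣ, g ≠ scal K V c) :
    Group.IsSolvable (cl (Aff A)) := by
  have : Nontrivial V := S.nontrivial
  obtain ⟨B, r, SB⟩ := H680.TcSelB.main S hns
  obtain ⟨b, hb, hbn⟩ := SB.ns
  obtain ⟨ω, hω, -⟩ := SB.heis.exists_root hb hbn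
  have hK : 3 ≤ Nat.card K := by
    have h1 : 1 < Nat.card Kˣ := Finite.one_lt_card_iff_nontrivial.2 ⟨⟨ω, 1, hω⟩⟩
    have h2 := Nat.card_units K
    have h3 : 0 < Nat.card K := Nat.card_pos
    omega
  have hdim : ∀ v : V, ∃ w, ∀ c : K, w ≠ c • v := by
    intro v
    by_contra hcon
    push Not at hcon
    have hv0 : v ≠ 0 := by
      rintro rfl
      obtain ⟨w, hw⟩ := exists_ne (0 : V)
      obtain ⟨c, hc⟩ := hcon w
      rw [smul_zero] at hc
      exact hw hc
    obtain ⟨c, hc⟩ := hcon (b • v)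
    obtain ⟨d, hd⟩ := unit_of_smul hv0 hc
    refine hbn d (GV_ext fun w => ?_)
    obtain ⟨e, rfl⟩ := hcon w
    rw [SB.heis.linb hb, hd, scal_smul, smul_comm]
  obtain ⟨h1, hs⟩ := Cfsg.Agent.H344.TcStepE.main hK hdim A S.semi
  refine solvable_of_le h1 (solvable_Aff _ ?_)
  rcases T1.main SB hs with h2 | hn
  · exact h2
  rcases T2.main SB hs hn with h2 | h2
  · exact h2
  exact H877.Last.main SB hs hn h2 (Cfsg.Agent.H216.TcT3.T3.main SB hs hn)

theorem semi_of_conj {K V : Type u} [Field K] [Finite K] [AddCommGroup V] [Nontrivial V]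
    [Module K V] (g : GV V)
    (hg : ∀ c : K, ∃ d : K, (g : AddMonoid.End V) * Module.toAddMonoidEnd K V c *
      ((g⁻¹ : GV V) : AddMonoid.End V) = Module.toAddMonoidEnd K V d) : Semi K g := by
  choose σ hσ using hg
  have hntE : Nontrivial (AddMonoid.End V) := ⟨1, 0, fun h => by
    obtain ⟨v, hv⟩ := exists_ne (0 : V)
    exact hv (congrArg (fun f : AddMonoid.End V => f v) h)⟩
  have hinj : Function.Injective (Module.toAddMonoidEnd K V) :=
    (Module.toAddMonoidEnd K V).injective
  have hgg : ((g⁻¹ : GV V) : AddMonoid.End V) * (g : AddMonoid.End V) = 1 := g.inv_mul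
  have hgg' : (g : AddMonoid.End V) * ((g⁻¹ : GV V) : AddMonoid.End V) = 1 := g.mul_inv
  let f : K →+* K :=
    { toFun := σ
      map_one' := by
        apply hinj
        rw [← hσ, map_one, mul_one, hgg']
      map_mul' := fun a b => by
        apply hinj
        rw [map_mul, ← hσ, ← hσ, ← hσ, map_mul]
        simp only [mul_assoc]
        rw [← mul_assoc ((g⁻¹ : GV V) : AddMonoid.End V) (g : AddMonoid.End V), hgg, one_mul]
      map_zero' := by
        apply hinj
        rw [← hσ, map_zero, mul_zero, zero_mul]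
      map_add' := fun a b => by
        apply hinj
        rw [map_add, ← hσ, ← hσ, ← hσ, map_add, mul_add, add_mul] }
  have hf : Function.Bijective f := (Finite.injective_iff_bijective).1 f.injective
  refine ⟨RingEquiv.ofBijective f hf, fun c v => ?_⟩
  have h1 : (g : AddMonoid.End V) * Module.toAddMonoidEnd K V c =
      Module.toAddMonoidEnd K V (σ c) * (g : AddMonoid.End V) := by
    rw [← hσ, mul_assoc, hgg, mul_one]
  exact congrArg (fun k : AddMonoid.End V => k v) h1

theorem star_field {K V : Type u} [Field K] [Finite K] [AddCommGroup V] [Finite V]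
    (hc : 3 ≤ Nat.card V)
    (hI : IH.{u} (Nat.card V)) (A : Subgroup (GV V)) (hA : Group.IsSolvable A) (hirr : Irr A)
    (j : K →+* AddMonoid.End V)
    (hj : ∀ g ∈ A, ∀ c : K, ∃ d : K, (g : AddMonoid.End V) * j c *
      ((g⁻¹ : GV V) : AddMonoid.End V) = j d)
    (hmax : ∀ R : Subring (AddMonoid.End V), (∀ a ∈ R, ∀ b ∈ R, a * b = b * a) →
      (∀ g ∈ A, ∀ r ∈ R, (g : AddMonoid.End V) * r * ((g⁻¹ : GV V) : AddMonoid.End V) ∈ R) →
      (∀ c : K, j c ∈ R) → ∀ r ∈ R, ∃ c : K, r = j c) :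
    Group.IsSolvable (cl (Aff A)) := by
  classical
  have hnt : Nontrivial V := Finite.one_lt_card_iff_nontrivial.1 (by omega)
  let _ : Module K V := Module.compHom V j
  have hjM : ∀ c : K, Module.toAddMonoidEnd K V c = j c := fun c => rfl
  have hsemi : ∀ g ∈ A, Semi K g := by
    intro g hg
    exact semi_of_conj g (hj g hg)
  let T : Subgroup (GV V) := (scal K V).range
  have hT : Group.IsSolvable T := by
    refine Group.isSolvable_of_comm ?_
    rintro ⟨_, c, rfl⟩ ⟨_, d, rfl⟩
    apply Subtype.ext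
    change scal K V c * scal K V d = scal K V d * scal K V c
    rw [← map_mul, ← map_mul, mul_comm]
  let A1 : Subgroup (GV V) := A ⊔ T
  have hA1s : Group.IsSolvable A1 := by
    refine solvable_sup hA hT ?_
    rintro a ha _ ⟨c, rfl⟩
    obtain ⟨d, hd⟩ := (hsemi a ha).conj_scal c
    exact ⟨d, hd.symm⟩
  have hle : A ≤ A1 := le_sup_left
  have hsemi1 : ∀ g ∈ A1, Semi K g := by
    have h1 : A1 ≤ SemiG K V := by
      refine sup_le (fun g hg => hsemi g hg) ?_
      rintro _ ⟨c, rfl⟩
      exact Semi.of_lin (lin_scal c)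
    exact h1
  have hirr1 : Irr A1 := fun U hU => hirr U fun g hg => hU g (hle hg)
  have S : SetA K V A1 :=
    { ih := hI
      card := hc
      solv := hA1s
      irr := hirr1
      semi := hsemi1
      scal_mem := fun c => (le_sup_right : T ≤ A1) ⟨c, rfl⟩
      max := fun R h1 h2 h3 => hmax R h1 (fun g hg => h2 g (hle hg)) h3 }
  refine solvable_of_le (cl_mono (Aff_mono hle)) ?_
  by_cases hcase : ∃ g ∈ A1, Lin K g ∧ ∀ c : Kˣ, g ≠ scal K V c
  · exact case_two S hcase
  · push Not at hcase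
    obtain ⟨v, hv⟩ := Cfsg.Agent.H529.TcHilbertN.main A1 hsemi1 S.scal_mem
      (fun g hg hl => hcase g hg hl) hirr1
    have hv0 : v ≠ 0 := by
      rintro rfl
      obtain ⟨w, hw⟩ := exists_ne (0 : V)
      obtain ⟨c, hc⟩ := hv w
      rw [smul_zero] at hc
      exact hw hc
    exact case_one A1 hsemi1 v hv0 hv

theorem star (V : Type u) [AddCommGroup V] [Finite V] (hc : 3 ≤ Nat.card V)
    (hI : IH.{u} (Nat.card V)) (A : Subgroup (GV V)) (hA : Group.IsSolvable A) (hirr : Irr A) :
    Group.IsSolvable (cl (Aff A)) := by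
  classical
  by_contra hns
  have hnt : Nontrivial V := Finite.one_lt_card_iff_nontrivial.1 (by omega)
  have hfE := finite_End V
  let P : Subring (AddMonoid.End V) → Prop := fun R =>
    (∀ a ∈ R, ∀ b ∈ R, a * b = b * a) ∧
    ∀ g ∈ A, ∀ r ∈ R, (g : AddMonoid.End V) * r * ((g⁻¹ : GV V) : AddMonoid.End V) ∈ R
  have hfin : Finite (Subring (AddMonoid.End V)) :=
    Finite.of_injective (fun R : Subring (AddMonoid.End V) => (R : Set (AddMonoid.End V)))
      SetLike.coe_injective
  have hP0 : P ⊥ := by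
    have h1 : ∀ r ∈ (⊥ : Subring (AddMonoid.End V)), ∀ a, a * r = r * a := by
      intro r hr a
      rw [Subring.mem_bot] at hr
      obtain ⟨n, rfl⟩ := hr
      exact (Int.commute_cast a n).eq
    refine ⟨fun a ha b hb => h1 b hb a, fun g hg r hr => ?_⟩
    rw [h1 r hr, mul_assoc]
    have : (g : AddMonoid.End V) * ((g⁻¹ : GV V) : AddMonoid.End V) = 1 := g.mul_inv
    rw [this, mul_one]
    exact hr
  obtain ⟨R, hR, hRmax⟩ := (Set.toFinite {R | P R}).exists_maximal ⟨⊥, hP0⟩
  obtain ⟨hRc, hRn⟩ := hR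
  have hinv := (Cfsg.Agent.H734.TcDich.Dich.main hI A hA hirr R hRc hRn).resolve_left hns
  -- the field
  have hfield : IsField R :=
    { exists_pair_ne := ⟨0, 1, fun h => by
        have h1 : (0 : AddMonoid.End V) = 1 := congrArg Subtype.val h
        obtain ⟨v, hv⟩ := exists_ne (0 : V)
        exact hv (congrArg (fun f : AddMonoid.End V => f v) h1).symm⟩
      mul_comm := fun a b => Subtype.ext (hRc a a.2 b b.2)
      mul_inv_cancel := by
        intro a ha
        obtain ⟨s, hs, h1⟩ := hinv a a.2 (fun h => ha (Subtype.ext h))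
        exact ⟨⟨s, hs⟩, Subtype.ext h1⟩ }
  let _ : Field R := hfield.toField
  refine hns (star_field (K := R) hc hI A hA hirr R.subtype ?_ ?_)
  · intro g hg c
    exact ⟨⟨_, hRn g hg c c.2⟩, rfl⟩
  · intro R' h1 h2 h3 r hr
    have h4 : R ≤ R' := fun x hx => h3 ⟨x, hx⟩
    exact ⟨⟨r, hRmax ⟨h1, h2⟩ h4 hr⟩, rfl⟩

/-- The 3-closure of a solvable permutation group is solvable. -/
theorem cl_solvable {Ω : Type u} [Finite Ω] (G : Subgroup (Perm Ω)) (hG : Group.IsSolvable G) :
    Group.IsSolvable (cl G) :=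
  Cfsg.Agent.H183.TcStepB.StepB.main (fun V _ _ hc hI A hA hirr => star V hc hI A hA hirr) G hG

end Cfsg.Agent.H412.Tc
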